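import Cfsg.Agent.H56.Inv.Rank
import Cfsg.Agent.H37.Chev.All

/-!
Rank certificates for classes of involutions of `E7`.
-/
set_option autoImplicit false
set_option maxRecDepth 100000

namespace Cfsg.Agent.H56.Inv.E7

open Cfsg.Lie Cfsg.Agent

/-- The rank certificate of representative 1. -/
def rank1 : RankCert where
  cols :=
    [0x80, 0x0, 0x0, 0x0, 0x0, 0x0, 0x0, 0x0, 0x0, 0x0, 0x0, 0x0, 0x0, 0x0, 0x0, 0x0, 0x0, 0x0,
     0x0, 0x0, 0x0, 0x0, 0x0, 0x0, 0x0, 0x0, 0x0, 0x0, 0x0, 0x0, 0x0, 0x0, 0x0, 0x0, 0x0, 0x0,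
     0x0, 0x0, 0x0, 0x0, 0x0, 0x0, 0x0, 0x0, 0x0, 0x0, 0x0, 0x0, 0x0, 0x0, 0x0, 0x0, 0x0, 0x0,
     0x0, 0x0, 0x0, 0x0, 0x0, 0x0, 0x0, 0x0, 0x0, 0x0, 0x0, 0x0, 0x0, 0x0, 0x0, 0x0, 0x0, 0x0,
     0x0, 0x0, 0x0, 0x0, 0x0, 0x0, 0x0, 0x0, 0x0, 0x0, 0x0, 0x0, 0x0, 0x0, 0x0, 0x0, 0x0, 0x0,
     0x0, 0x0, 0x0, 0x0, 0x0, 0x0, 0x0, 0x0, 0x0, 0x0, 0x100, 0x200, 0x400, 0x800, 0x1000,
     0x2000, 0x4000, 0x8000, 0x10000, 0x20000, 0x40000, 0x80000, 0x100000, 0x200000, 0x400000,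
     0x800000, 0x1000000, 0x2000000, 0x4000000, 0x8000000, 0x10000000, 0x20000000, 0x40000000,
     0x80000000, 0x100000000, 0x200000000, 0x400000000, 0x800000000, 0x1000000000, 0x2000000000,
     0x4000000000, 0x8000000000, 0xd4]
  basis :=
    [0x54, 0x80, 0x100, 0x200, 0x400, 0x800, 0x1000, 0x2000, 0x4000, 0x8000, 0x10000, 0x20000,
     0x40000, 0x80000, 0x100000, 0x200000, 0x400000, 0x800000, 0x1000000, 0x2000000, 0x4000000,
     0x8000000, 0x10000000, 0x20000000, 0x40000000, 0x80000000, 0x100000000, 0x200000000,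
     0x400000000, 0x800000000, 0x1000000000, 0x2000000000, 0x4000000000, 0x8000000000]
  sel :=
    [0x1000000000000000000000000000000001, 0x1, 0x10000000000000000000000000,
     0x20000000000000000000000000, 0x40000000000000000000000000, 0x80000000000000000000000000,
     0x100000000000000000000000000, 0x200000000000000000000000000, 0x400000000000000000000000000,
     0x800000000000000000000000000, 0x1000000000000000000000000000,
     0x2000000000000000000000000000, 0x4000000000000000000000000000,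
     0x8000000000000000000000000000, 0x10000000000000000000000000000,
     0x20000000000000000000000000000, 0x40000000000000000000000000000,
     0x80000000000000000000000000000, 0x100000000000000000000000000000,
     0x200000000000000000000000000000, 0x400000000000000000000000000000,
     0x800000000000000000000000000000, 0x1000000000000000000000000000000,
     0x2000000000000000000000000000000, 0x4000000000000000000000000000000,
     0x8000000000000000000000000000000, 0x10000000000000000000000000000000,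
     0x20000000000000000000000000000000, 0x40000000000000000000000000000000,
     0x80000000000000000000000000000000, 0x100000000000000000000000000000000,
     0x200000000000000000000000000000000, 0x400000000000000000000000000000000,
     0x800000000000000000000000000000000]
  piv :=
    [0x6, 0x7, 0x8, 0x9, 0xa, 0xb, 0xc, 0xd, 0xe, 0xf, 0x10, 0x11, 0x12, 0x13, 0x14, 0x15, 0x16,
     0x17, 0x18, 0x19, 0x1a, 0x1b, 0x1c, 0x1d, 0x1e, 0x1f, 0x20, 0x21, 0x22, 0x23, 0x24, 0x25,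
     0x26, 0x27]
  coef :=
    [0x2, 0x0, 0x0, 0x0, 0x0, 0x0, 0x0, 0x0, 0x0, 0x0, 0x0, 0x0, 0x0, 0x0, 0x0, 0x0, 0x0, 0x0,
     0x0, 0x0, 0x0, 0x0, 0x0, 0x0, 0x0, 0x0, 0x0, 0x0, 0x0, 0x0, 0x0, 0x0, 0x0, 0x0, 0x0, 0x0,
     0x0, 0x0, 0x0, 0x0, 0x0, 0x0, 0x0, 0x0, 0x0, 0x0, 0x0, 0x0, 0x0, 0x0, 0x0, 0x0, 0x0, 0x0,
     0x0, 0x0, 0x0, 0x0, 0x0, 0x0, 0x0, 0x0, 0x0, 0x0, 0x0, 0x0, 0x0, 0x0, 0x0, 0x0, 0x0, 0x0,
     0x0, 0x0, 0x0, 0x0, 0x0, 0x0, 0x0, 0x0, 0x0, 0x0, 0x0, 0x0, 0x0, 0x0, 0x0, 0x0, 0x0, 0x0,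
     0x0, 0x0, 0x0, 0x0, 0x0, 0x0, 0x0, 0x0, 0x0, 0x0, 0x4, 0x8, 0x10, 0x20, 0x40, 0x80, 0x100,
     0x200, 0x400, 0x800, 0x1000, 0x2000, 0x4000, 0x8000, 0x10000, 0x20000, 0x40000, 0x80000,
     0x100000, 0x200000, 0x400000, 0x800000, 0x1000000, 0x2000000, 0x4000000, 0x8000000,
     0x10000000, 0x20000000, 0x40000000, 0x80000000, 0x100000000, 0x200000000, 0x3]

theorem rank1_ok : rank1.check chevE7 [0] = true := by decide +kernel

end Cfsg.Agent.H56.Inv.E7
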