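import Cfsg.Agent.H56.Inv.Walk
import Cfsg.Agent.H37.Chev.All

/-!
The walk and the frame of `E7` in characteristic two.
-/
set_option autoImplicit false
set_option maxRecDepth 100000

namespace Cfsg.Agent.H56.Inv.E7

open Cfsg.Lie Cfsg.Agent

/-- The representatives. -/
def reps : List (List ℕ) := [[], [0], [0, 33], [0, 33, 62], [0, 33, 38], [0, 33, 38, 47]]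

/-- The frame. -/
def frameRoots : List ℕ := [63, 66, 73, 105, 106, 110, 112, 111, 107, 113, 125]

/-- The steps from representative 0. -/
def steps0 : List (ℕ × List ℕ × Option ℕ) :=
  [(0, [], some 1),
   (1, [0], some 1),
   (2, [0, 2], some 1),
   (3, [0, 2, 3], some 1),
   (4, [0, 2, 3, 1, 4, 1], some 1),
   (5, [0, 2, 3, 1, 4, 3, 2, 0, 5, 0, 2, 3, 1], some 1),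
   (6, [0, 2, 3, 1, 4, 3, 2, 0, 5, 4, 3, 1, 2, 3, 4, 5, 6, 5, 4, 3, 1, 2, 0, 3, 2, 4, 3, 1, 6, 1,
      3, 4, 2, 3, 0, 2, 1, 3, 4, 5, 4, 3, 2, 1, 3, 4, 0, 2, 3, 1], some 1),
   (7, [0, 2, 3, 1], some 1),
   (8, [0, 2, 3, 1, 4], some 1),
   (9, [0, 2, 3, 1, 4, 3, 2, 0, 5, 0, 2, 3], some 1),
   (10, [0, 2, 3, 1, 4, 3, 2, 0, 5, 4, 3, 1, 2, 3, 4, 5, 6, 5, 4, 3, 1, 2, 0, 3, 2, 4, 3, 1, 6, 1,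
      3, 4, 2, 3, 0, 2, 1, 3, 4, 5, 4, 3, 2, 1, 3, 4, 0, 2, 3], some 1),
   (11, [0, 2, 3, 1, 4, 3], some 1),
   (12, [0, 2, 3, 1, 4, 3, 2, 0, 5, 0, 2], some 1),
   (13, [0, 2, 3, 1, 4, 3, 2, 0, 5, 4, 3, 1, 2, 3, 4, 5, 6, 5, 4, 3, 1, 2, 0, 3, 2, 4, 3, 1, 6, 1,
      3, 4, 2, 3, 0, 2, 1, 3, 4, 5, 4, 3, 2, 1, 3, 4, 0, 2], some 1),
   (14, [0, 2, 3, 1, 4, 3, 2, 0, 5, 4, 0, 2], some 1),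
   (15, [0, 2, 3, 1, 4, 3, 2, 0, 5, 4, 3, 1, 2, 3, 4, 5, 6, 5, 4, 3, 1, 2, 0, 3, 2, 4, 3, 1, 6, 1,
      3, 4, 2, 3, 0, 2, 1, 3, 4, 5, 4, 3, 2, 1, 3, 0, 2], some 1),
   (16, [0, 2, 3, 1, 4, 3, 2, 0, 5, 4, 3, 1, 2, 3, 4, 5, 6, 5, 4, 3, 1, 2, 0, 3, 2, 4, 3, 1, 6, 1,
      3, 4, 5, 2, 3, 0, 2, 1, 3, 4, 3, 2, 1, 3, 0, 2], some 1),
   (17, [0, 2, 3, 1, 4, 3, 2], some 1),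
   (18, [0, 2, 3, 1, 4, 3, 2, 0, 5, 0], some 1),
   (19, [0, 2, 3, 1, 4, 3, 2, 0, 5, 4, 3, 1, 2, 3, 4, 5, 6, 5, 4, 3, 1, 2, 0, 3, 2, 4, 3, 1, 6, 1,
      3, 4, 2, 3, 0, 2, 1, 3, 4, 5, 4, 3, 2, 1, 3, 4, 0], some 1),
   (20, [0, 2, 3, 1, 4, 3, 2, 0, 5, 4, 0], some 1),
   (21, [0, 2, 3, 1, 4, 3, 2, 0, 5, 4, 3, 1, 2, 3, 4, 5, 6, 5, 4, 3, 1, 2, 0, 3, 2, 4, 3, 1, 6, 1,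
      3, 4, 2, 3, 0, 2, 1, 3, 4, 5, 4, 3, 2, 1, 3, 0], some 1),
   (22, [0, 2, 3, 1, 4, 3, 2, 0, 5, 4, 3, 1, 2, 3, 4, 5, 6, 5, 4, 3, 1, 2, 0, 3, 2, 4, 3, 1, 6, 1,
      3, 4, 5, 2, 3, 0, 2, 1, 3, 4, 3, 2, 1, 3, 0], some 1),
   (23, [0, 2, 3, 1, 4, 3, 2, 0, 5, 4, 3, 0], some 1),
   (24, [0, 2, 3, 1, 4, 3, 2, 0, 5, 4, 3, 1, 2, 3, 4, 5, 6, 5, 4, 3, 1, 2, 0, 3, 2, 4, 3, 1, 6, 1,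
      3, 4, 2, 3, 0, 2, 1, 3, 4, 5, 4, 3, 2, 1, 0], some 1),
   (25, [0, 2, 3, 1, 4, 3, 2, 0, 5, 4, 3, 1, 2, 3, 4, 5, 6, 5, 4, 3, 1, 2, 0, 3, 2, 4, 3, 1, 6, 1,
      3, 4, 5, 2, 3, 0, 2, 1, 3, 4, 3, 2, 1, 0], some 1),
   (26, [0, 2, 3, 1, 4, 3, 2, 0, 5, 4, 3, 1, 2, 3, 4, 5, 6, 5, 4, 3, 1, 2, 0, 3, 2, 4, 3, 1, 6, 1,
      3, 4, 5, 2, 3, 4, 0, 2, 1, 3, 2, 1, 0], some 1),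
   (27, [0, 2, 3, 1, 4, 3, 2, 0, 5, 4, 3, 1, 0], some 1),
   (28, [0, 2, 3, 1, 4, 3, 2, 0, 5, 4, 3, 1, 2, 3, 4, 5, 6, 5, 4, 3, 1, 2, 0, 3, 2, 4, 3, 1, 6, 1,
      3, 4, 2, 3, 0, 2, 1, 3, 4, 5, 4, 3, 2, 0], some 1),
   (29, [0, 2, 3, 1, 4, 3, 2, 0, 5, 4, 3, 1, 2, 3, 4, 5, 6, 5, 4, 3, 1, 2, 0, 3, 2, 4, 3, 1, 6, 1,
      3, 4, 5, 2, 3, 0, 2, 1, 3, 4, 3, 2, 0], some 1),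
   (30, [0, 2, 3, 1, 4, 3, 2, 0, 5, 4, 3, 1, 2, 3, 4, 5, 6, 5, 4, 3, 1, 2, 0, 3, 2, 4, 3, 1, 6, 1,
      3, 4, 5, 2, 3, 4, 0, 2, 1, 3, 2, 0], some 1),
   (31, [0, 2, 3, 1, 4, 3, 2, 0, 5, 4, 3, 1, 2, 3, 4, 5, 6, 5, 4, 3, 1, 2, 0, 3, 2, 4, 3, 1, 6, 1,
      3, 4, 5, 2, 3, 4, 1, 3, 0, 2, 0], some 1),
   (32, [0, 2, 3, 1, 4, 3, 2, 0, 5, 4, 3, 1, 2, 3, 4, 5, 6, 5, 4, 3, 1, 2, 0, 3, 2, 4, 3, 1, 6, 1,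
      3, 4, 5, 2, 3, 4, 1, 3, 2, 0], some 1),
   (33, [0, 2, 3, 1, 4, 3, 2, 0], some 1),
   (34, [0, 2, 3, 1, 4, 3, 2, 0, 5], some 1),
   (35, [0, 2, 3, 1, 4, 3, 2, 0, 5, 4, 3, 1, 2, 3, 4, 5, 6, 5, 4, 3, 1, 2, 0, 3, 2, 4, 3, 1, 6, 1,
      3, 4, 2, 3, 0, 2, 1, 3, 4, 5, 4, 3, 2, 1, 3, 4], some 1),
   (36, [0, 2, 3, 1, 4, 3, 2, 0, 5, 4], some 1),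
   (37, [0, 2, 3, 1, 4, 3, 2, 0, 5, 4, 3, 1, 2, 3, 4, 5, 6, 5, 4, 3, 1, 2, 0, 3, 2, 4, 3, 1, 6, 1,
      3, 4, 2, 3, 0, 2, 1, 3, 4, 5, 4, 3, 2, 1, 3], some 1),
   (38, [0, 2, 3, 1, 4, 3, 2, 0, 5, 4, 3, 1, 2, 3, 4, 5, 6, 5, 4, 3, 1, 2, 0, 3, 2, 4, 3, 1, 6, 1,
      3, 4, 5, 2, 3, 0, 2, 1, 3, 4, 3, 2, 1, 3], some 1),
   (39, [0, 2, 3, 1, 4, 3, 2, 0, 5, 4, 3], some 1),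
   (40, [0, 2, 3, 1, 4, 3, 2, 0, 5, 4, 3, 1, 2, 3, 4, 5, 6, 5, 4, 3, 1, 2, 0, 3, 2, 4, 3, 1, 6, 1,
      3, 4, 2, 3, 0, 2, 1, 3, 4, 5, 4, 3, 2, 1], some 1),
   (41, [0, 2, 3, 1, 4, 3, 2, 0, 5, 4, 3, 1, 2, 3, 4, 5, 6, 5, 4, 3, 1, 2, 0, 3, 2, 4, 3, 1, 6, 1,
      3, 4, 5, 2, 3, 0, 2, 1, 3, 4, 3, 2, 1], some 1),
   (42, [0, 2, 3, 1, 4, 3, 2, 0, 5, 4, 3, 1, 2, 3, 4, 5, 6, 5, 4, 3, 1, 2, 0, 3, 2, 4, 3, 1, 6, 1,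
      3, 4, 5, 2, 3, 4, 0, 2, 1, 3, 2, 1], some 1),
   (43, [0, 2, 3, 1, 4, 3, 2, 0, 5, 4, 3, 1, 2, 1], some 1),
   (44, [0, 2, 3, 1, 4, 3, 2, 0, 5, 4, 3, 1, 2, 3, 4, 5, 6, 5, 4, 3, 1, 2, 0, 3, 2, 4, 3, 1, 6, 1,
      3, 4, 2, 3, 0, 2, 1, 3, 4, 5, 4, 3, 1], some 1),
   (45, [0, 2, 3, 1, 4, 3, 2, 0, 5, 4, 3, 1, 2, 3, 4, 5, 6, 5, 4, 3, 1, 2, 0, 3, 2, 4, 3, 1, 6, 1,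
      3, 4, 5, 2, 3, 0, 2, 1, 3, 4, 3, 1], some 1),
   (46, [0, 2, 3, 1, 4, 3, 2, 0, 5, 4, 3, 1, 2, 3, 4, 5, 6, 5, 4, 3, 1, 2, 0, 3, 2, 4, 3, 1, 6, 1,
      3, 4, 5, 2, 3, 4, 0, 2, 1, 3, 1], some 1),
   (47, [0, 2, 3, 1, 4, 3, 2, 0, 5, 4, 3, 1, 2, 3, 4, 5, 6, 5, 4, 3, 1, 2, 0, 3, 2, 4, 3, 1, 6, 1,
      3, 4, 5, 2, 3, 4, 0, 2, 3, 1], some 1),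
   (48, [0, 2, 3, 1, 4, 3, 2, 0, 5, 4, 3, 1], some 1),
   (49, [0, 2, 3, 1, 4, 3, 2, 0, 5, 4, 3, 1, 2, 3, 4, 5, 6, 5, 4, 3, 1, 2, 0, 3, 2, 4, 3, 1, 6, 1,
      3, 4, 2, 3, 0, 2, 1, 3, 4, 5, 4, 3, 2], some 1),
   (50, [0, 2, 3, 1, 4, 3, 2, 0, 5, 4, 3, 1, 2, 3, 4, 5, 6, 5, 4, 3, 1, 2, 0, 3, 2, 4, 3, 1, 6, 1,
      3, 4, 5, 2, 3, 0, 2, 1, 3, 4, 3, 2], some 1),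
   (51, [0, 2, 3, 1, 4, 3, 2, 0, 5, 4, 3, 1, 2, 3, 4, 5, 6, 5, 4, 3, 1, 2, 0, 3, 2, 4, 3, 1, 6, 1,
      3, 4, 5, 2, 3, 4, 0, 2, 1, 3, 2], some 1),
   (52, [0, 2, 3, 1, 4, 3, 2, 0, 5, 4, 3, 1, 2, 3, 4, 5, 6, 5, 4, 3, 1, 2, 0, 3, 2, 4, 3, 1, 6, 1,
      3, 4, 5, 2, 3, 4, 1, 3, 0, 2], some 1),
   (53, [0, 2, 3, 1, 4, 3, 2, 0, 5, 4, 3, 1, 2], some 1),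
   (54, [0, 2, 3, 1, 4, 3, 2, 0, 5, 4, 3, 1, 2, 3, 4, 5, 6, 5, 4, 3, 1, 2, 0, 3, 2, 4, 3, 1, 6, 1,
      3, 4, 2, 3, 0, 2, 1, 3, 4, 5, 4, 3], some 1),
   (55, [0, 2, 3, 1, 4, 3, 2, 0, 5, 4, 3, 1, 2, 3, 4, 5, 6, 5, 4, 3, 1, 2, 0, 3, 2, 4, 3, 1, 6, 1,
      3, 4, 5, 2, 3, 0, 2, 1, 3, 4, 3], some 1),
   (56, [0, 2, 3, 1, 4, 3, 2, 0, 5, 4, 3, 1, 2, 3, 4, 5, 6, 5, 4, 3, 1, 2, 0, 3, 2, 4, 3, 1, 6, 1,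
      3, 4, 5, 2, 3, 4, 0, 2, 1, 3], some 1),
   (57, [0, 2, 3, 1, 4, 3, 2, 0, 5, 4, 3, 1, 2, 3], some 1),
   (58, [0, 2, 3, 1, 4, 3, 2, 0, 5, 4, 3, 1, 2, 3, 4, 5, 6, 5, 4, 3, 1, 2, 0, 3, 2, 4, 3, 1, 6, 1,
      3, 4, 2, 3, 0, 2, 1, 3, 4, 5, 4], some 1),
   (59, [0, 2, 3, 1, 4, 3, 2, 0, 5, 4, 3, 1, 2, 3, 4, 5, 6, 5, 4, 3, 1, 2, 0, 3, 2, 4, 3, 1, 6, 1,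
      3, 4, 5, 2, 3, 0, 2, 1, 3, 4], some 1),
   (60, [0, 2, 3, 1, 4, 3, 2, 0, 5, 4, 3, 1, 2, 3, 4], some 1),
   (61, [0, 2, 3, 1, 4, 3, 2, 0, 5, 4, 3, 1, 2, 3, 4, 5, 6, 5, 4, 3, 1, 2, 0, 3, 2, 4, 3, 1, 6, 1,
      3, 4, 2, 3, 0, 2, 1, 3, 4, 5], some 1),
   (62, [0, 2, 3, 1, 4, 3, 2, 0, 5, 4, 3, 1, 2, 3, 4, 5], some 1),
   (63, [0, 2, 3, 1, 4, 3, 2, 0, 5, 4, 3, 1, 2, 3, 4, 5, 6], some 1),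
   (64, [0, 2, 3, 1, 4, 3, 2, 0, 5, 4, 3, 1, 2, 3, 4, 5, 6, 5, 4, 3, 1, 2, 0, 3, 2, 4, 3, 1, 6, 1,
      3, 4, 2, 3, 0, 2, 1, 3, 4], some 1),
   (65, [0, 2, 3, 1, 4, 3, 2, 0, 5, 4, 3, 1, 2, 3, 4, 5, 6, 5], some 1),
   (66, [0, 2, 3, 1, 4, 3, 2, 0, 5, 4, 3, 1, 2, 3, 4, 5, 6, 5, 4, 3, 1, 2, 0, 3, 2, 4, 3, 1, 6, 1,
      3, 4, 5, 2, 3, 0, 2, 1, 3], some 1),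
   (67, [0, 2, 3, 1, 4, 3, 2, 0, 5, 4, 3, 1, 2, 3, 4, 5, 6, 5, 4, 3, 1, 2, 0, 3, 2, 4, 3, 1, 6, 1,
      3, 4, 2, 3, 0, 2, 1, 3], some 1),
   (68, [0, 2, 3, 1, 4, 3, 2, 0, 5, 4, 3, 1, 2, 3, 4, 5, 6, 5, 4], some 1),
   (69, [0, 2, 3, 1, 4, 3, 2, 0, 5, 4, 3, 1, 2, 3, 4, 5, 6, 5, 4, 3, 1, 2, 0, 3, 2, 4, 3, 1, 6, 1,
      3, 4, 5, 2, 3, 4, 0, 2, 1], some 1),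
   (70, [0, 2, 3, 1, 4, 3, 2, 0, 5, 4, 3, 1, 2, 3, 4, 5, 6, 5, 4, 3, 1, 2, 0, 3, 2, 4, 3, 1, 6, 1,
      3, 4, 5, 2, 3, 0, 2, 1], some 1),
   (71, [0, 2, 3, 1, 4, 3, 2, 0, 5, 4, 3, 1, 2, 3, 4, 5, 6, 5, 4, 3, 1, 2, 0, 3, 2, 4, 3, 1, 6, 1,
      3, 4, 2, 3, 0, 2, 1], some 1),
   (72, [0, 2, 3, 1, 4, 3, 2, 0, 5, 4, 3, 1, 2, 3, 4, 5, 6, 5, 4, 3], some 1),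
   (73, [0, 2, 3, 1, 4, 3, 2, 0, 5, 4, 3, 1, 2, 3, 4, 5, 6, 5, 4, 3, 1, 2, 0, 3, 2, 4, 3, 1, 6, 1,
      3, 4, 5, 2, 3, 4, 1, 3, 0], some 1),
   (74, [0, 2, 3, 1, 4, 3, 2, 0, 5, 4, 3, 1, 2, 3, 4, 5, 6, 5, 4, 3, 1, 2, 0, 3, 2, 4, 3, 1, 6, 1,
      3, 4, 5, 2, 3, 4, 1, 0], some 1),
   (75, [0, 2, 3, 1, 4, 3, 2, 0, 5, 4, 3, 1, 2, 3, 4, 5, 6, 5, 4, 3, 1, 2, 0, 3, 2, 4, 3, 1, 6, 1,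
      3, 4, 5, 2, 3, 1, 0], some 1),
   (76, [0, 2, 3, 1, 4, 3, 2, 0, 5, 4, 3, 1, 2, 3, 4, 5, 6, 5, 4, 3, 1, 2, 0, 3, 2, 4, 3, 1, 6, 1,
      3, 4, 2, 3, 1, 0], some 1),
   (77, [0, 2, 3, 1, 4, 3, 2, 0, 5, 4, 3, 1, 2, 3, 4, 5, 6, 5, 4, 3, 1, 2, 0, 1, 0], some 1),
   (78, [0, 2, 3, 1, 4, 3, 2, 0, 5, 4, 3, 1, 2, 3, 4, 5, 6, 5, 4, 3, 1, 2, 0, 3, 2, 4, 3, 1, 6, 1,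
      3, 4, 5, 2, 3, 4, 0, 2, 3], some 1),
   (79, [0, 2, 3, 1, 4, 3, 2, 0, 5, 4, 3, 1, 2, 3, 4, 5, 6, 5, 4, 3, 1, 2, 0, 3, 2, 4, 3, 1, 6, 1,
      3, 4, 5, 2, 3, 4, 0, 2], some 1),
   (80, [0, 2, 3, 1, 4, 3, 2, 0, 5, 4, 3, 1, 2, 3, 4, 5, 6, 5, 4, 3, 1, 2, 0, 3, 2, 4, 3, 1, 6, 1,
      3, 4, 5, 2, 3, 0, 2], some 1),
   (81, [0, 2, 3, 1, 4, 3, 2, 0, 5, 4, 3, 1, 2, 3, 4, 5, 6, 5, 4, 3, 1, 2, 0, 3, 2, 4, 3, 1, 6, 1,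
      3, 4, 2, 3, 0, 2], some 1),
   (82, [0, 2, 3, 1, 4, 3, 2, 0, 5, 4, 3, 1, 2, 3, 4, 5, 6, 5, 4, 3, 1], some 1),
   (83, [0, 2, 3, 1, 4, 3, 2, 0, 5, 4, 3, 1, 2, 3, 4, 5, 6, 5, 4, 3, 1, 2, 0, 3, 2, 4, 3, 1, 6, 1,
      3, 4, 5, 2, 3, 4, 0], some 1),
   (84, [0, 2, 3, 1, 4, 3, 2, 0, 5, 4, 3, 1, 2, 3, 4, 5, 6, 5, 4, 3, 1, 2, 0, 3, 2, 4, 3, 1, 6, 1,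
      3, 4, 5, 2, 3, 0], some 1),
   (85, [0, 2, 3, 1, 4, 3, 2, 0, 5, 4, 3, 1, 2, 3, 4, 5, 6, 5, 4, 3, 1, 2, 0, 3, 2, 4, 3, 1, 6, 1,
      3, 4, 2, 3, 0], some 1),
   (86, [0, 2, 3, 1, 4, 3, 2, 0, 5, 4, 3, 1, 2, 3, 4, 5, 6, 5, 4, 3, 1, 2], some 1),
   (87, [0, 2, 3, 1, 4, 3, 2, 0, 5, 4, 3, 1, 2, 3, 4, 5, 6, 5, 4, 3, 1, 2, 0, 3, 2, 4, 3, 1, 6, 1,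
      3, 4, 5, 2, 0], some 1),
   (88, [0, 2, 3, 1, 4, 3, 2, 0, 5, 4, 3, 1, 2, 3, 4, 5, 6, 5, 4, 3, 1, 2, 0, 3, 2, 4, 3, 1, 6, 1,
      3, 4, 2, 0], some 1),
   (89, [0, 2, 3, 1, 4, 3, 2, 0, 5, 4, 3, 1, 2, 3, 4, 5, 6, 5, 4, 3, 1, 2, 0, 3, 0], some 1),
   (90, [0, 2, 3, 1, 4, 3, 2, 0, 5, 4, 3, 1, 2, 3, 4, 5, 6, 5, 4, 3, 1, 2, 0, 3, 2, 4, 3, 1, 6, 1,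
      3, 2, 0], some 1),
   (91, [0, 2, 3, 1, 4, 3, 2, 0, 5, 4, 3, 1, 2, 3, 4, 5, 6, 5, 4, 3, 1, 2, 0, 3, 2, 4, 2, 0], some 1),
   (92, [0, 2, 3, 1, 4, 3, 2, 0, 5, 4, 3, 1, 2, 3, 4, 5, 6, 5, 4, 3, 1, 2, 0, 3, 2, 4, 3, 1, 5, 1,
      3, 2, 0], some 1),
   (93, [0, 2, 3, 1, 4, 3, 2, 0, 5, 4, 3, 1, 2, 3, 4, 5, 6, 5, 4, 3, 1, 2, 0, 3, 2, 4, 3, 1, 6, 1,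
      3, 4, 5, 2, 3, 4, 1, 3, 2], some 1),
   (94, [0, 2, 3, 1, 4, 3, 2, 0, 5, 4, 3, 1, 2, 3, 4, 5, 6, 5, 4, 3, 1, 2, 0, 3, 2, 4, 3, 1, 6, 1,
      3, 4, 5, 2, 3, 4, 1, 3], some 1),
   (95, [0, 2, 3, 1, 4, 3, 2, 0, 5, 4, 3, 1, 2, 3, 4, 5, 6, 5, 4, 3, 1, 2, 0, 3, 2, 4, 3, 1, 6, 1,
      3, 4, 5, 2, 3, 4, 1], some 1),
   (96, [0, 2, 3, 1, 4, 3, 2, 0, 5, 4, 3, 1, 2, 3, 4, 5, 6, 5, 4, 3, 1, 2, 0, 3, 2, 4, 3, 1, 6, 1,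
      3, 4, 5, 2, 3, 1], some 1),
   (97, [0, 2, 3, 1, 4, 3, 2, 0, 5, 4, 3, 1, 2, 3, 4, 5, 6, 5, 4, 3, 1, 2, 0, 3, 2, 4, 3, 1, 6, 1,
      3, 4, 2, 3, 1], some 1),
   (98, [0, 2, 3, 1, 4, 3, 2, 0, 5, 4, 3, 1, 2, 3, 4, 5, 6, 5, 4, 3, 1, 2, 0, 1], some 1),
   (99, [0, 2, 3, 1, 4, 3, 2, 0, 5, 4, 3, 1, 2, 3, 4, 5, 6, 5, 4, 3, 1, 2, 0, 3, 2, 4, 3, 1, 6, 1,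
      3, 4, 5, 2, 3, 4], some 1),
   (100, [0, 2, 3, 1, 4, 3, 2, 0, 5, 4, 3, 1, 2, 3, 4, 5, 6, 5, 4, 3, 1, 2, 0, 3, 2, 4, 3, 1, 6, 1,
      3, 4, 5, 2, 3], some 1),
   (101, [0, 2, 3, 1, 4, 3, 2, 0, 5, 4, 3, 1, 2, 3, 4, 5, 6, 5, 4, 3, 1, 2, 0, 3, 2, 4, 3, 1, 6, 1,
      3, 4, 2, 3], some 1),
   (102, [0, 2, 3, 1, 4, 3, 2, 0, 5, 4, 3, 1, 2, 3, 4, 5, 6, 5, 4, 3, 1, 2, 0], some 1),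
   (103, [0, 2, 3, 1, 4, 3, 2, 0, 5, 4, 3, 1, 2, 3, 4, 5, 6, 5, 4, 3, 1, 2, 0, 3, 2, 4, 3, 1, 6, 1,
      3, 4, 5, 2], some 1),
   (104, [0, 2, 3, 1, 4, 3, 2, 0, 5, 4, 3, 1, 2, 3, 4, 5, 6, 5, 4, 3, 1, 2, 0, 3, 2, 4, 3, 1, 6, 1,
      3, 4, 2], some 1),
   (105, [0, 2, 3, 1, 4, 3, 2, 0, 5, 4, 3, 1, 2, 3, 4, 5, 6, 5, 4, 3, 1, 2, 0, 3], some 1),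
   (106, [0, 2, 3, 1, 4, 3, 2, 0, 5, 4, 3, 1, 2, 3, 4, 5, 6, 5, 4, 3, 1, 2, 0, 3, 2, 4, 3, 1, 6, 1,
      3, 2], some 1),
   (107, [0, 2, 3, 1, 4, 3, 2, 0, 5, 4, 3, 1, 2, 3, 4, 5, 6, 5, 4, 3, 1, 2, 0, 3, 2, 4, 2], some 1),
   (108, [0, 2, 3, 1, 4, 3, 2, 0, 5, 4, 3, 1, 2, 3, 4, 5, 6, 5, 4, 3, 1, 2, 0, 3, 2, 4, 3, 1, 5, 1,
      3, 2], some 1),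
   (109, [0, 2, 3, 1, 4, 3, 2, 0, 5, 4, 3, 1, 2, 3, 4, 5, 6, 5, 4, 3, 1, 2, 0, 3, 2, 4, 3, 1, 6, 1,
      3, 4, 5], some 1),
   (110, [0, 2, 3, 1, 4, 3, 2, 0, 5, 4, 3, 1, 2, 3, 4, 5, 6, 5, 4, 3, 1, 2, 0, 3, 2, 4, 3, 1, 6, 1,
      3, 4], some 1),
   (111, [0, 2, 3, 1, 4, 3, 2, 0, 5, 4, 3, 1, 2, 3, 4, 5, 6, 5, 4, 3, 1, 2, 0, 3, 2], some 1),
   (112, [0, 2, 3, 1, 4, 3, 2, 0, 5, 4, 3, 1, 2, 3, 4, 5, 6, 5, 4, 3, 1, 2, 0, 3, 2, 4, 3, 1, 6, 1,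
      3], some 1),
   (113, [0, 2, 3, 1, 4, 3, 2, 0, 5, 4, 3, 1, 2, 3, 4, 5, 6, 5, 4, 3, 1, 2, 0, 3, 2, 4], some 1),
   (114, [0, 2, 3, 1, 4, 3, 2, 0, 5, 4, 3, 1, 2, 3, 4, 5, 6, 5, 4, 3, 1, 2, 0, 3, 2, 4, 3, 1, 5, 1,
      3], some 1),
   (115, [0, 2, 3, 1, 4, 3, 2, 0, 5, 4, 3, 1, 2, 3, 4, 5, 6, 5, 4, 3, 1, 2, 0, 3, 2, 4, 3, 1, 6, 1], some 1),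
   (116, [0, 2, 3, 1, 4, 3, 2, 0, 5, 4, 3, 1, 2, 3, 4, 5, 6, 5, 4, 3, 1, 2, 0, 3, 2, 4, 3], some 1),
   (117, [0, 2, 3, 1, 4, 3, 2, 0, 5, 4, 3, 1, 2, 3, 4, 5, 6, 5, 4, 3, 1, 2, 0, 3, 2, 4, 3, 1, 5, 1], some 1),
   (118, [0, 2, 3, 1, 4, 3, 2, 0, 5, 4, 3, 1, 2, 3, 4, 5, 6, 5, 4, 3, 1, 2, 0, 3, 2, 4, 3, 1, 5, 4,
      1], some 1),
   (119, [0, 2, 3, 1, 4, 3, 2, 0, 5, 4, 3, 1, 2, 3, 4, 5, 6, 5, 4, 3, 1, 2, 0, 3, 2, 4, 3, 1, 6], some 1),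
   (120, [0, 2, 3, 1, 4, 3, 2, 0, 5, 4, 3, 1, 2, 3, 4, 5, 6, 5, 4, 3, 1, 2, 0, 3, 2, 4, 3, 1], some 1),
   (121, [0, 2, 3, 1, 4, 3, 2, 0, 5, 4, 3, 1, 2, 3, 4, 5, 6, 5, 4, 3, 1, 2, 0, 3, 2, 4, 3, 1, 5], some 1),
   (122, [0, 2, 3, 1, 4, 3, 2, 0, 5, 4, 3, 1, 2, 3, 4, 5, 6, 5, 4, 3, 1, 2, 0, 3, 2, 4, 3, 1, 5, 4], some 1),
   (123, [0, 2, 3, 1, 4, 3, 2, 0, 5, 4, 3, 1, 2, 3, 4, 5, 6, 5, 4, 3, 1, 2, 0, 3, 2, 4, 3, 1, 5, 4,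
      3], some 1),
   (124, [0, 2, 3, 1, 4, 3, 2, 0, 5, 4, 3, 1, 2, 3, 4, 5, 6, 5, 4, 3, 1, 2, 0, 3, 2, 4, 3, 1, 5, 4,
      3, 2], some 1),
   (125, [0, 2, 3, 1, 4, 3, 2, 0, 5, 4, 3, 1, 2, 3, 4, 5, 6, 5, 4, 3, 1, 2, 0, 3, 2, 4, 3, 1, 5, 4,
      3, 2, 0], some 1)]

/-- The steps from representative 1. -/
def steps1 : List (ℕ × List ℕ × Option ℕ) :=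
  [(33, [0, 2, 3, 1, 4, 3, 2, 0], some 2),
   (34, [0, 2, 3, 1, 4, 3, 2, 0, 5], some 2),
   (35, [0, 2, 3, 1, 4, 3, 2, 0, 5, 4, 3, 1, 2, 3, 4, 5, 6, 5, 4, 3, 1, 2, 0, 3, 2, 4, 3, 1, 6, 1,
      3, 4, 2, 3, 0, 2, 1, 3, 4, 5, 4, 3, 2, 1, 3, 4], some 2),
   (36, [0, 2, 3, 1, 4, 3, 2, 0, 5, 4], some 2),
   (37, [0, 2, 3, 1, 4, 3, 2, 0, 5, 4, 3, 1, 2, 3, 4, 5, 6, 5, 4, 3, 1, 2, 0, 3, 2, 4, 3, 1, 6, 1,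
      3, 4, 2, 3, 0, 2, 1, 3, 4, 5, 4, 3, 2, 1, 3], some 2),
   (38, [0, 2, 3, 1, 4, 3, 2, 0, 5, 4, 3, 1, 2, 3, 4, 5, 6, 5, 4, 3, 1, 2, 0, 3, 2, 4, 3, 1, 6, 1,
      3, 4, 5, 2, 3, 0, 2, 1, 3, 4, 3, 2, 1, 3], some 2),
   (39, [0, 2, 3, 1, 4, 3, 2, 0, 5, 4, 3], some 2),
   (40, [0, 2, 3, 1, 4, 3, 2, 0, 5, 4, 3, 1, 2, 3, 4, 5, 6, 5, 4, 3, 1, 2, 0, 3, 2, 4, 3, 1, 6, 1,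
      3, 4, 2, 3, 0, 2, 1, 3, 4, 5, 4, 3, 2, 1], some 2),
   (41, [0, 2, 3, 1, 4, 3, 2, 0, 5, 4, 3, 1, 2, 3, 4, 5, 6, 5, 4, 3, 1, 2, 0, 3, 2, 4, 3, 1, 6, 1,
      3, 4, 5, 2, 3, 0, 2, 1, 3, 4, 3, 2, 1], some 2),
   (42, [0, 2, 3, 1, 4, 3, 2, 0, 5, 4, 3, 1, 2, 3, 4, 5, 6, 5, 4, 3, 1, 2, 0, 3, 2, 4, 3, 1, 6, 1,
      3, 4, 5, 2, 3, 4, 0, 2, 1, 3, 2, 1], some 2),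
   (43, [0, 2, 3, 1, 4, 3, 2, 0, 5, 4, 3, 1, 2, 1], some 2),
   (44, [0, 2, 3, 1, 4, 3, 2, 0, 5, 4, 3, 1, 2, 3, 4, 5, 6, 5, 4, 3, 1, 2, 0, 3, 2, 4, 3, 1, 6, 1,
      3, 4, 2, 3, 0, 2, 1, 3, 4, 5, 4, 3, 1], some 2),
   (45, [0, 2, 3, 1, 4, 3, 2, 0, 5, 4, 3, 1, 2, 3, 4, 5, 6, 5, 4, 3, 1, 2, 0, 3, 2, 4, 3, 1, 6, 1,
      3, 4, 5, 2, 3, 0, 2, 1, 3, 4, 3, 1], some 2),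
   (46, [0, 2, 3, 1, 4, 3, 2, 0, 5, 4, 3, 1, 2, 3, 4, 5, 6, 5, 4, 3, 1, 2, 0, 3, 2, 4, 3, 1, 6, 1,
      3, 4, 5, 2, 3, 4, 0, 2, 1, 3, 1], some 2),
   (47, [0, 2, 3, 1, 4, 3, 2, 0, 5, 4, 3, 1, 2, 3, 4, 5, 6, 5, 4, 3, 1, 2, 0, 3, 2, 4, 3, 1, 6, 1,
      3, 4, 5, 2, 3, 4, 0, 2, 3, 1], some 2),
   (48, [0, 2, 3, 1, 4, 3, 2, 0, 5, 4, 3, 1], some 2),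
   (49, [0, 2, 3, 1, 4, 3, 2, 0, 5, 4, 3, 1, 2, 3, 4, 5, 6, 5, 4, 3, 1, 2, 0, 3, 2, 4, 3, 1, 6, 1,
      3, 4, 2, 3, 0, 2, 1, 3, 4, 5, 4, 3, 2], some 2),
   (50, [0, 2, 3, 1, 4, 3, 2, 0, 5, 4, 3, 1, 2, 3, 4, 5, 6, 5, 4, 3, 1, 2, 0, 3, 2, 4, 3, 1, 6, 1,
      3, 4, 5, 2, 3, 0, 2, 1, 3, 4, 3, 2], some 2),
   (51, [0, 2, 3, 1, 4, 3, 2, 0, 5, 4, 3, 1, 2, 3, 4, 5, 6, 5, 4, 3, 1, 2, 0, 3, 2, 4, 3, 1, 6, 1,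
      3, 4, 5, 2, 3, 4, 0, 2, 1, 3, 2], some 2),
   (52, [0, 2, 3, 1, 4, 3, 2, 0, 5, 4, 3, 1, 2, 3, 4, 5, 6, 5, 4, 3, 1, 2, 0, 3, 2, 4, 3, 1, 6, 1,
      3, 4, 5, 2, 3, 4, 1, 3, 0, 2], some 2),
   (53, [0, 2, 3, 1, 4, 3, 2, 0, 5, 4, 3, 1, 2], some 2),
   (54, [0, 2, 3, 1, 4, 3, 2, 0, 5, 4, 3, 1, 2, 3, 4, 5, 6, 5, 4, 3, 1, 2, 0, 3, 2, 4, 3, 1, 6, 1,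
      3, 4, 2, 3, 0, 2, 1, 3, 4, 5, 4, 3], some 2),
   (55, [0, 2, 3, 1, 4, 3, 2, 0, 5, 4, 3, 1, 2, 3, 4, 5, 6, 5, 4, 3, 1, 2, 0, 3, 2, 4, 3, 1, 6, 1,
      3, 4, 5, 2, 3, 0, 2, 1, 3, 4, 3], some 2),
   (56, [0, 2, 3, 1, 4, 3, 2, 0, 5, 4, 3, 1, 2, 3, 4, 5, 6, 5, 4, 3, 1, 2, 0, 3, 2, 4, 3, 1, 6, 1,
      3, 4, 5, 2, 3, 4, 0, 2, 1, 3], some 2),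
   (57, [0, 2, 3, 1, 4, 3, 2, 0, 5, 4, 3, 1, 2, 3], some 2),
   (58, [0, 2, 3, 1, 4, 3, 2, 0, 5, 4, 3, 1, 2, 3, 4, 5, 6, 5, 4, 3, 1, 2, 0, 3, 2, 4, 3, 1, 6, 1,
      3, 4, 2, 3, 0, 2, 1, 3, 4, 5, 4], some 2),
   (59, [0, 2, 3, 1, 4, 3, 2, 0, 5, 4, 3, 1, 2, 3, 4, 5, 6, 5, 4, 3, 1, 2, 0, 3, 2, 4, 3, 1, 6, 1,
      3, 4, 5, 2, 3, 0, 2, 1, 3, 4], some 2),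
   (60, [0, 2, 3, 1, 4, 3, 2, 0, 5, 4, 3, 1, 2, 3, 4], some 2),
   (61, [0, 2, 3, 1, 4, 3, 2, 0, 5, 4, 3, 1, 2, 3, 4, 5, 6, 5, 4, 3, 1, 2, 0, 3, 2, 4, 3, 1, 6, 1,
      3, 4, 2, 3, 0, 2, 1, 3, 4, 5], some 2),
   (62, [0, 2, 3, 1, 4, 3, 2, 0, 5, 4, 3, 1, 2, 3, 4, 5], some 2),
   (63, [0, 2, 3, 1, 4, 3, 2, 0, 5, 4, 3, 1, 2, 3, 4, 5, 6], some 2),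
   (64, [0, 2, 3, 1, 4, 3, 2, 0, 5, 4, 3, 1, 2, 3, 4, 5, 6, 5, 4, 3, 1, 2, 0, 3, 2, 4, 3, 1, 6, 1,
      3, 4, 2, 3, 0, 2, 1, 3, 4], some 2),
   (65, [0, 2, 3, 1, 4, 3, 2, 0, 5, 4, 3, 1, 2, 3, 4, 5, 6, 5], some 2),
   (66, [0, 2, 3, 1, 4, 3, 2, 0, 5, 4, 3, 1, 2, 3, 4, 5, 6, 5, 4, 3, 1, 2, 0, 3, 2, 4, 3, 1, 6, 1,
      3, 4, 5, 2, 3, 0, 2, 1, 3], some 2),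
   (67, [0, 2, 3, 1, 4, 3, 2, 0, 5, 4, 3, 1, 2, 3, 4, 5, 6, 5, 4, 3, 1, 2, 0, 3, 2, 4, 3, 1, 6, 1,
      3, 4, 2, 3, 0, 2, 1, 3], some 2),
   (68, [0, 2, 3, 1, 4, 3, 2, 0, 5, 4, 3, 1, 2, 3, 4, 5, 6, 5, 4], some 2),
   (69, [0, 2, 3, 1, 4, 3, 2, 0, 5, 4, 3, 1, 2, 3, 4, 5, 6, 5, 4, 3, 1, 2, 0, 3, 2, 4, 3, 1, 6, 1,
      3, 4, 5, 2, 3, 4, 0, 2, 1], some 2),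
   (70, [0, 2, 3, 1, 4, 3, 2, 0, 5, 4, 3, 1, 2, 3, 4, 5, 6, 5, 4, 3, 1, 2, 0, 3, 2, 4, 3, 1, 6, 1,
      3, 4, 5, 2, 3, 0, 2, 1], some 2),
   (71, [0, 2, 3, 1, 4, 3, 2, 0, 5, 4, 3, 1, 2, 3, 4, 5, 6, 5, 4, 3, 1, 2, 0, 3, 2, 4, 3, 1, 6, 1,
      3, 4, 2, 3, 0, 2, 1], some 2),
   (72, [0, 2, 3, 1, 4, 3, 2, 0, 5, 4, 3, 1, 2, 3, 4, 5, 6, 5, 4, 3], some 2),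
   (73, [0, 2, 3, 1, 4, 3, 2, 0, 5, 4, 3, 1, 2, 3, 4, 5, 6, 5, 4, 3, 1, 2, 0, 3, 2, 4, 3, 1, 6, 1,
      3, 4, 5, 2, 3, 4, 1, 3, 0], some 2),
   (74, [0, 2, 3, 1, 4, 3, 2, 0, 5, 4, 3, 1, 2, 3, 4, 5, 6, 5, 4, 3, 1, 2, 0, 3, 2, 4, 3, 1, 6, 1,
      3, 4, 5, 2, 3, 4, 1, 0], some 2),
   (75, [0, 2, 3, 1, 4, 3, 2, 0, 5, 4, 3, 1, 2, 3, 4, 5, 6, 5, 4, 3, 1, 2, 0, 3, 2, 4, 3, 1, 6, 1,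
      3, 4, 5, 2, 3, 1, 0], some 2),
   (76, [0, 2, 3, 1, 4, 3, 2, 0, 5, 4, 3, 1, 2, 3, 4, 5, 6, 5, 4, 3, 1, 2, 0, 3, 2, 4, 3, 1, 6, 1,
      3, 4, 2, 3, 1, 0], some 2),
   (77, [0, 2, 3, 1, 4, 3, 2, 0, 5, 4, 3, 1, 2, 3, 4, 5, 6, 5, 4, 3, 1, 2, 0, 1, 0], some 2),
   (78, [0, 2, 3, 1, 4, 3, 2, 0, 5, 4, 3, 1, 2, 3, 4, 5, 6, 5, 4, 3, 1, 2, 0, 3, 2, 4, 3, 1, 6, 1,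
      3, 4, 5, 2, 3, 4, 0, 2, 3], some 2),
   (79, [0, 2, 3, 1, 4, 3, 2, 0, 5, 4, 3, 1, 2, 3, 4, 5, 6, 5, 4, 3, 1, 2, 0, 3, 2, 4, 3, 1, 6, 1,
      3, 4, 5, 2, 3, 4, 0, 2], some 2),
   (80, [0, 2, 3, 1, 4, 3, 2, 0, 5, 4, 3, 1, 2, 3, 4, 5, 6, 5, 4, 3, 1, 2, 0, 3, 2, 4, 3, 1, 6, 1,
      3, 4, 5, 2, 3, 0, 2], some 2),
   (81, [0, 2, 3, 1, 4, 3, 2, 0, 5, 4, 3, 1, 2, 3, 4, 5, 6, 5, 4, 3, 1, 2, 0, 3, 2, 4, 3, 1, 6, 1,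
      3, 4, 2, 3, 0, 2], some 2),
   (82, [0, 2, 3, 1, 4, 3, 2, 0, 5, 4, 3, 1, 2, 3, 4, 5, 6, 5, 4, 3, 1], some 2),
   (83, [0, 2, 3, 1, 4, 3, 2, 0, 5, 4, 3, 1, 2, 3, 4, 5, 6, 5, 4, 3, 1, 2, 0, 3, 2, 4, 3, 1, 6, 1,
      3, 4, 5, 2, 3, 4, 0], some 2),
   (84, [0, 2, 3, 1, 4, 3, 2, 0, 5, 4, 3, 1, 2, 3, 4, 5, 6, 5, 4, 3, 1, 2, 0, 3, 2, 4, 3, 1, 6, 1,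
      3, 4, 5, 2, 3, 0], some 2),
   (85, [0, 2, 3, 1, 4, 3, 2, 0, 5, 4, 3, 1, 2, 3, 4, 5, 6, 5, 4, 3, 1, 2, 0, 3, 2, 4, 3, 1, 6, 1,
      3, 4, 2, 3, 0], some 2),
   (86, [0, 2, 3, 1, 4, 3, 2, 0, 5, 4, 3, 1, 2, 3, 4, 5, 6, 5, 4, 3, 1, 2], some 2),
   (87, [0, 2, 3, 1, 4, 3, 2, 0, 5, 4, 3, 1, 2, 3, 4, 5, 6, 5, 4, 3, 1, 2, 0, 3, 2, 4, 3, 1, 6, 1,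
      3, 4, 5, 2, 0], some 2),
   (88, [0, 2, 3, 1, 4, 3, 2, 0, 5, 4, 3, 1, 2, 3, 4, 5, 6, 5, 4, 3, 1, 2, 0, 3, 2, 4, 3, 1, 6, 1,
      3, 4, 2, 0], some 2),
   (89, [0, 2, 3, 1, 4, 3, 2, 0, 5, 4, 3, 1, 2, 3, 4, 5, 6, 5, 4, 3, 1, 2, 0, 3, 0], some 2),
   (90, [0, 2, 3, 1, 4, 3, 2, 0, 5, 4, 3, 1, 2, 3, 4, 5, 6, 5, 4, 3, 1, 2, 0, 3, 2, 4, 3, 1, 6, 1,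
      3, 2, 0], some 2),
   (91, [0, 2, 3, 1, 4, 3, 2, 0, 5, 4, 3, 1, 2, 3, 4, 5, 6, 5, 4, 3, 1, 2, 0, 3, 2, 4, 2, 0], some 2),
   (92, [0, 2, 3, 1, 4, 3, 2, 0, 5, 4, 3, 1, 2, 3, 4, 5, 6, 5, 4, 3, 1, 2, 0, 3, 2, 4, 3, 1, 5, 1,
      3, 2, 0], some 2)]

/-- The steps from representative 2. -/
def steps2 : List (ℕ × List ℕ × Option ℕ) :=
  [(38, [0, 2, 3, 1, 4, 3, 2, 0, 5, 4, 3, 1, 2, 3, 4, 5, 6, 5, 4, 3, 1, 2, 0, 3, 2, 4, 3, 1, 6, 1,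
      3, 4, 5, 2, 3, 0, 2, 1, 3, 4, 3, 2, 1, 3], some 4),
   (41, [0, 2, 3, 1, 4, 3, 2, 0, 5, 4, 3, 1, 2, 3, 4, 5, 6, 5, 4, 3, 1, 2, 0, 3, 2, 4, 3, 1, 6, 1,
      3, 4, 5, 2, 3, 0, 2, 1, 3, 4, 3, 2, 1], some 4),
   (42, [0, 2, 3, 1, 4, 3, 2, 0, 5, 4, 3, 1, 2, 3, 4, 5, 6, 5, 4, 3, 1, 2, 0, 3, 2, 4, 3, 1, 6, 1,
      3, 4, 5, 2, 3, 4, 0, 2, 1, 3, 2, 1], some 4),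
   (45, [0, 2, 3, 1, 4, 3, 2, 0, 5, 4, 3, 1, 2, 3, 4, 5, 6, 5, 4, 3, 1, 2, 0, 3, 2, 4, 3, 1, 6, 1,
      3, 4, 5, 2, 3, 0, 2, 1, 3, 4, 3, 1], some 4),
   (46, [0, 2, 3, 1, 4, 3, 2, 0, 5, 4, 3, 1, 2, 3, 4, 5, 6, 5, 4, 3, 1, 2, 0, 3, 2, 4, 3, 1, 6, 1,
      3, 4, 5, 2, 3, 4, 0, 2, 1, 3, 1], some 4),
   (47, [0, 2, 3, 1, 4, 3, 2, 0, 5, 4, 3, 1, 2, 3, 4, 5, 6, 5, 4, 3, 1, 2, 0, 3, 2, 4, 3, 1, 6, 1,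
      3, 4, 5, 2, 3, 4, 0, 2, 3, 1], some 4),
   (50, [0, 2, 3, 1, 4, 3, 2, 0, 5, 4, 3, 1, 2, 3, 4, 5, 6, 5, 4, 3, 1, 2, 0, 3, 2, 4, 3, 1, 6, 1,
      3, 4, 5, 2, 3, 0, 2, 1, 3, 4, 3, 2], some 4),
   (51, [0, 2, 3, 1, 4, 3, 2, 0, 5, 4, 3, 1, 2, 3, 4, 5, 6, 5, 4, 3, 1, 2, 0, 3, 2, 4, 3, 1, 6, 1,
      3, 4, 5, 2, 3, 4, 0, 2, 1, 3, 2], some 4),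
   (52, [0, 2, 3, 1, 4, 3, 2, 0, 5, 4, 3, 1, 2, 3, 4, 5, 6, 5, 4, 3, 1, 2, 0, 3, 2, 4, 3, 1, 6, 1,
      3, 4, 5, 2, 3, 4, 1, 3, 0, 2], some 4),
   (55, [0, 2, 3, 1, 4, 3, 2, 0, 5, 4, 3, 1, 2, 3, 4, 5, 6, 5, 4, 3, 1, 2, 0, 3, 2, 4, 3, 1, 6, 1,
      3, 4, 5, 2, 3, 0, 2, 1, 3, 4, 3], some 4),
   (56, [0, 2, 3, 1, 4, 3, 2, 0, 5, 4, 3, 1, 2, 3, 4, 5, 6, 5, 4, 3, 1, 2, 0, 3, 2, 4, 3, 1, 6, 1,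
      3, 4, 5, 2, 3, 4, 0, 2, 1, 3], some 4),
   (59, [0, 2, 3, 1, 4, 3, 2, 0, 5, 4, 3, 1, 2, 3, 4, 5, 6, 5, 4, 3, 1, 2, 0, 3, 2, 4, 3, 1, 6, 1,
      3, 4, 5, 2, 3, 0, 2, 1, 3, 4], some 4),
   (62, [0, 2, 3, 1, 4, 3, 2, 0, 5, 4, 3, 1, 2, 3, 4, 5], some 3),
   (63, [0, 2, 3, 1, 4, 3, 2, 0, 5, 4, 3, 1, 2, 3, 4, 5, 6], some 3),
   (66, [0, 2, 3, 1, 4, 3, 2, 0, 5, 4, 3, 1, 2, 3, 4, 5, 6, 5, 4, 3, 1, 2, 0, 3, 2, 4, 3, 1, 6, 1,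
      3, 4, 5, 2, 3, 0, 2, 1, 3], some 4),
   (69, [0, 2, 3, 1, 4, 3, 2, 0, 5, 4, 3, 1, 2, 3, 4, 5, 6, 5, 4, 3, 1, 2, 0, 3, 2, 4, 3, 1, 6, 1,
      3, 4, 5, 2, 3, 4, 0, 2, 1], some 4),
   (70, [0, 2, 3, 1, 4, 3, 2, 0, 5, 4, 3, 1, 2, 3, 4, 5, 6, 5, 4, 3, 1, 2, 0, 3, 2, 4, 3, 1, 6, 1,
      3, 4, 5, 2, 3, 0, 2, 1], some 4),
   (73, [0, 2, 3, 1, 4, 3, 2, 0, 5, 4, 3, 1, 2, 3, 4, 5, 6, 5, 4, 3, 1, 2, 0, 3, 2, 4, 3, 1, 6, 1,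
      3, 4, 5, 2, 3, 4, 1, 3, 0], some 4),
   (74, [0, 2, 3, 1, 4, 3, 2, 0, 5, 4, 3, 1, 2, 3, 4, 5, 6, 5, 4, 3, 1, 2, 0, 3, 2, 4, 3, 1, 6, 1,
      3, 4, 5, 2, 3, 4, 1, 0], some 4),
   (75, [0, 2, 3, 1, 4, 3, 2, 0, 5, 4, 3, 1, 2, 3, 4, 5, 6, 5, 4, 3, 1, 2, 0, 3, 2, 4, 3, 1, 6, 1,
      3, 4, 5, 2, 3, 1, 0], some 4),
   (78, [0, 2, 3, 1, 4, 3, 2, 0, 5, 4, 3, 1, 2, 3, 4, 5, 6, 5, 4, 3, 1, 2, 0, 3, 2, 4, 3, 1, 6, 1,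
      3, 4, 5, 2, 3, 4, 0, 2, 3], some 4),
   (79, [0, 2, 3, 1, 4, 3, 2, 0, 5, 4, 3, 1, 2, 3, 4, 5, 6, 5, 4, 3, 1, 2, 0, 3, 2, 4, 3, 1, 6, 1,
      3, 4, 5, 2, 3, 4, 0, 2], some 4),
   (80, [0, 2, 3, 1, 4, 3, 2, 0, 5, 4, 3, 1, 2, 3, 4, 5, 6, 5, 4, 3, 1, 2, 0, 3, 2, 4, 3, 1, 6, 1,
      3, 4, 5, 2, 3, 0, 2], some 4),
   (83, [0, 2, 3, 1, 4, 3, 2, 0, 5, 4, 3, 1, 2, 3, 4, 5, 6, 5, 4, 3, 1, 2, 0, 3, 2, 4, 3, 1, 6, 1,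
      3, 4, 5, 2, 3, 4, 0], some 4),
   (84, [0, 2, 3, 1, 4, 3, 2, 0, 5, 4, 3, 1, 2, 3, 4, 5, 6, 5, 4, 3, 1, 2, 0, 3, 2, 4, 3, 1, 6, 1,
      3, 4, 5, 2, 3, 0], some 4),
   (87, [0, 2, 3, 1, 4, 3, 2, 0, 5, 4, 3, 1, 2, 3, 4, 5, 6, 5, 4, 3, 1, 2, 0, 3, 2, 4, 3, 1, 6, 1,
      3, 4, 5, 2, 0], some 4)]

/-- The steps from representative 3. -/
def steps3 : List (ℕ × List ℕ × Option ℕ) :=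
  [(38, [0, 2, 3, 1, 4, 3, 2, 0, 5, 4, 3, 1, 2, 3, 4, 5, 6, 5, 4, 3, 1, 2, 0, 3, 2, 4, 3, 1, 6, 1,
      3, 4, 5, 2, 3, 0, 2, 1, 3, 4, 3, 2, 1, 3], some 5),
   (41, [0, 2, 3, 1, 4, 3, 2, 0, 5, 4, 3, 1, 2, 3, 4, 5, 6, 5, 4, 3, 1, 2, 0, 3, 2, 4, 3, 1, 6, 1,
      3, 4, 5, 2, 3, 0, 2, 1, 3, 4, 3, 2, 1], some 5),
   (42, [0, 2, 3, 1, 4, 3, 2, 0, 5, 4, 3, 1, 2, 3, 4, 5, 6, 5, 4, 3, 1, 2, 0, 3, 2, 4, 3, 1, 6, 1,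
      3, 4, 5, 2, 3, 4, 0, 2, 1, 3, 2, 1], some 5),
   (45, [0, 2, 3, 1, 4, 3, 2, 0, 5, 4, 3, 1, 2, 3, 4, 5, 6, 5, 4, 3, 1, 2, 0, 3, 2, 4, 3, 1, 6, 1,
      3, 4, 5, 2, 3, 0, 2, 1, 3, 4, 3, 1], some 5),
   (46, [0, 2, 3, 1, 4, 3, 2, 0, 5, 4, 3, 1, 2, 3, 4, 5, 6, 5, 4, 3, 1, 2, 0, 3, 2, 4, 3, 1, 6, 1,
      3, 4, 5, 2, 3, 4, 0, 2, 1, 3, 1], some 5),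
   (47, [0, 2, 3, 1, 4, 3, 2, 0, 5, 4, 3, 1, 2, 3, 4, 5, 6, 5, 4, 3, 1, 2, 0, 3, 2, 4, 3, 1, 6, 1,
      3, 4, 5, 2, 3, 4, 0, 2, 3, 1], some 5),
   (50, [0, 2, 3, 1, 4, 3, 2, 0, 5, 4, 3, 1, 2, 3, 4, 5, 6, 5, 4, 3, 1, 2, 0, 3, 2, 4, 3, 1, 6, 1,
      3, 4, 5, 2, 3, 0, 2, 1, 3, 4, 3, 2], some 5),
   (51, [0, 2, 3, 1, 4, 3, 2, 0, 5, 4, 3, 1, 2, 3, 4, 5, 6, 5, 4, 3, 1, 2, 0, 3, 2, 4, 3, 1, 6, 1,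
      3, 4, 5, 2, 3, 4, 0, 2, 1, 3, 2], some 5),
   (52, [0, 2, 3, 1, 4, 3, 2, 0, 5, 4, 3, 1, 2, 3, 4, 5, 6, 5, 4, 3, 1, 2, 0, 3, 2, 4, 3, 1, 6, 1,
      3, 4, 5, 2, 3, 4, 1, 3, 0, 2], some 5),
   (55, [0, 2, 3, 1, 4, 3, 2, 0, 5, 4, 3, 1, 2, 3, 4, 5, 6, 5, 4, 3, 1, 2, 0, 3, 2, 4, 3, 1, 6, 1,
      3, 4, 5, 2, 3, 0, 2, 1, 3, 4, 3], some 5),
   (56, [0, 2, 3, 1, 4, 3, 2, 0, 5, 4, 3, 1, 2, 3, 4, 5, 6, 5, 4, 3, 1, 2, 0, 3, 2, 4, 3, 1, 6, 1,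
      3, 4, 5, 2, 3, 4, 0, 2, 1, 3], some 5),
   (59, [0, 2, 3, 1, 4, 3, 2, 0, 5, 4, 3, 1, 2, 3, 4, 5, 6, 5, 4, 3, 1, 2, 0, 3, 2, 4, 3, 1, 6, 1,
      3, 4, 5, 2, 3, 0, 2, 1, 3, 4], some 5),
   (66, [0, 2, 3, 1, 4, 3, 2, 0, 5, 4, 3, 1, 2, 3, 4, 5, 6, 5, 4, 3, 1, 2, 0, 3, 2, 4, 3, 1, 6, 1,
      3, 4, 5, 2, 3, 0, 2, 1, 3], some 5),
   (69, [0, 2, 3, 1, 4, 3, 2, 0, 5, 4, 3, 1, 2, 3, 4, 5, 6, 5, 4, 3, 1, 2, 0, 3, 2, 4, 3, 1, 6, 1,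
      3, 4, 5, 2, 3, 4, 0, 2, 1], some 5),
   (70, [0, 2, 3, 1, 4, 3, 2, 0, 5, 4, 3, 1, 2, 3, 4, 5, 6, 5, 4, 3, 1, 2, 0, 3, 2, 4, 3, 1, 6, 1,
      3, 4, 5, 2, 3, 0, 2, 1], some 5),
   (73, [0, 2, 3, 1, 4, 3, 2, 0, 5, 4, 3, 1, 2, 3, 4, 5, 6, 5, 4, 3, 1, 2, 0, 3, 2, 4, 3, 1, 6, 1,
      3, 4, 5, 2, 3, 4, 1, 3, 0], some 5),
   (74, [0, 2, 3, 1, 4, 3, 2, 0, 5, 4, 3, 1, 2, 3, 4, 5, 6, 5, 4, 3, 1, 2, 0, 3, 2, 4, 3, 1, 6, 1,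
      3, 4, 5, 2, 3, 4, 1, 0], some 5),
   (75, [0, 2, 3, 1, 4, 3, 2, 0, 5, 4, 3, 1, 2, 3, 4, 5, 6, 5, 4, 3, 1, 2, 0, 3, 2, 4, 3, 1, 6, 1,
      3, 4, 5, 2, 3, 1, 0], some 5),
   (78, [0, 2, 3, 1, 4, 3, 2, 0, 5, 4, 3, 1, 2, 3, 4, 5, 6, 5, 4, 3, 1, 2, 0, 3, 2, 4, 3, 1, 6, 1,
      3, 4, 5, 2, 3, 4, 0, 2, 3], some 5),
   (79, [0, 2, 3, 1, 4, 3, 2, 0, 5, 4, 3, 1, 2, 3, 4, 5, 6, 5, 4, 3, 1, 2, 0, 3, 2, 4, 3, 1, 6, 1,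
      3, 4, 5, 2, 3, 4, 0, 2], some 5),
   (80, [0, 2, 3, 1, 4, 3, 2, 0, 5, 4, 3, 1, 2, 3, 4, 5, 6, 5, 4, 3, 1, 2, 0, 3, 2, 4, 3, 1, 6, 1,
      3, 4, 5, 2, 3, 0, 2], some 5),
   (83, [0, 2, 3, 1, 4, 3, 2, 0, 5, 4, 3, 1, 2, 3, 4, 5, 6, 5, 4, 3, 1, 2, 0, 3, 2, 4, 3, 1, 6, 1,
      3, 4, 5, 2, 3, 4, 0], some 5),
   (84, [0, 2, 3, 1, 4, 3, 2, 0, 5, 4, 3, 1, 2, 3, 4, 5, 6, 5, 4, 3, 1, 2, 0, 3, 2, 4, 3, 1, 6, 1,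
      3, 4, 5, 2, 3, 0], some 5),
   (87, [0, 2, 3, 1, 4, 3, 2, 0, 5, 4, 3, 1, 2, 3, 4, 5, 6, 5, 4, 3, 1, 2, 0, 3, 2, 4, 3, 1, 6, 1,
      3, 4, 5, 2, 0], some 5)]

/-- The steps from representative 4. -/
def steps4 : List (ℕ × List ℕ × Option ℕ) :=
  [(47, [5, 4, 3, 1, 2, 3, 4, 5, 6, 5, 4, 3, 1, 2, 0, 3, 2, 4, 3, 1, 6, 1, 3, 4, 5, 2, 3, 4, 0, 2,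
      3, 1], some 5),
   (52, [5, 4, 3, 1, 2, 0, 3, 2, 4, 3, 1, 5, 4, 3, 2, 0, 3, 2, 4, 3, 5, 4, 6, 5, 3, 1, 4, 3, 2, 3,
      2, 1, 3, 4, 3, 2, 1, 3, 5, 4, 3, 2, 1, 3, 4, 5, 6, 5, 4, 3, 2, 1, 3, 4, 5, 0, 2, 3,
      4, 5, 6, 1, 3, 4, 5, 2, 3, 4, 1, 3, 0, 2], none),
   (59, [5, 4, 3, 1, 2, 3, 4, 5, 6, 5, 4, 3, 1, 2, 0, 3, 2, 4, 3, 1, 5, 4, 3, 2, 0, 3, 1, 2, 3, 4,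
      3, 1, 2, 3, 5, 4, 6, 4, 3, 2, 1, 3, 4, 5, 6, 5, 4, 3, 2, 1, 3, 4, 5, 0, 2, 3, 4, 5,
      6, 1, 3, 4, 5, 2, 3, 0, 2, 1, 3, 4], some 5),
   (62, [5, 4, 3, 1, 2, 3, 4, 5, 6, 5, 4, 3, 1, 2, 0, 3, 2, 4, 3, 1, 5, 4, 3, 2, 0, 3, 1, 2, 3, 4,
      3, 1, 2, 3, 5, 4, 6, 4, 3, 2, 1, 3, 4, 5, 6, 5, 4, 3, 2, 1, 3, 4, 5, 0, 2, 3, 4, 5,
      1, 3, 4, 2, 3, 0, 2, 1, 3, 4, 5, 6], some 5),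
   (63, [5, 4, 3, 1, 2, 3, 4, 5, 6, 5, 4, 3, 1, 2, 0, 3, 2, 4, 3, 1, 5, 4, 3, 2, 0, 3, 1, 2, 3, 4,
      3, 1, 2, 3, 5, 4, 6, 4, 3, 2, 1, 3, 4, 5, 6, 5, 4, 3, 2, 1, 3, 4, 5, 0, 2, 3, 4, 5,
      1, 3, 4, 2, 3, 0, 2, 1, 3, 4, 5], some 5),
   (66, [5, 4, 3, 1, 2, 3, 4, 5, 6, 5, 4, 3, 1, 2, 0, 3, 2, 4, 3, 1, 5, 4, 3, 2, 0, 3, 1, 2, 3, 4,
      3, 1, 2, 3, 5, 4, 6, 4, 3, 2, 1, 3, 4, 5, 6, 5, 4, 3, 2, 1, 3, 4, 5, 0, 2, 3, 4, 5,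
      6, 1, 3, 4, 5, 2, 3, 0, 2, 1, 3], some 5),
   (73, [5, 4, 3, 1, 2, 0, 3, 2, 4, 3, 1, 5, 4, 3, 2, 0, 3, 2, 4, 3, 5, 4, 6, 5, 3, 1, 4, 3, 2, 3,
      2, 1, 3, 4, 3, 2, 1, 3, 5, 4, 3, 2, 1, 3, 4, 5, 6, 5, 4, 3, 2, 1, 3, 4, 5, 0, 2, 3,
      4, 5, 6, 1, 3, 4, 5, 2, 3, 4, 1, 3, 0], none),
   (78, [5, 4, 3, 1, 2, 3, 4, 5, 6, 5, 4, 3, 1, 2, 0, 3, 2, 4, 3, 1, 6, 1, 3, 4, 5, 2, 3, 4, 0, 2,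
      3], some 5)]

/-- The steps from representative 5. -/
def steps5 : List (ℕ × List ℕ × Option ℕ) :=
  [(52, [5, 4, 3, 1, 2, 0, 3, 2, 4, 3, 1, 5, 4, 3, 2, 0, 3, 2, 4, 3, 5, 4, 6, 5, 3, 1, 4, 3, 2, 3,
      2, 1, 3, 4, 3, 2, 1, 3, 5, 4, 3, 2, 1, 3, 4, 5, 6, 5, 4, 3, 2, 1, 3, 4, 5, 0, 2, 3,
      4, 5, 6, 1, 3, 4, 5, 2, 3, 4, 1, 3, 0, 2], none),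
   (59, [5, 4, 3, 1, 2, 0, 3, 2, 4, 3, 1, 5, 4, 3, 2, 0, 3, 2, 4, 3, 5, 4, 6, 5, 3, 1, 4, 3, 2, 3,
      2, 1, 3, 4, 3, 2, 1, 3, 5, 4, 3, 2, 1, 3, 4, 5, 6, 5, 4, 3, 2, 1, 3, 4, 5, 0, 2, 3,
      4, 5, 6, 1, 3, 4, 5, 2, 3, 0, 2, 1, 3, 4], none),
   (62, [5, 4, 3, 1, 2, 0, 3, 2, 4, 3, 1, 5, 4, 3, 2, 0, 3, 2, 4, 3, 5, 4, 6, 5, 3, 1, 4, 3, 2, 3,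
      2, 1, 3, 4, 3, 2, 1, 3, 5, 4, 3, 2, 1, 3, 4, 5, 6, 5, 4, 3, 2, 1, 3, 4, 5, 0, 2, 3,
      4, 5, 1, 3, 4, 2, 3, 0, 2, 1, 3, 4, 5, 6], none),
   (63, [5, 4, 3, 1, 2, 0, 3, 2, 4, 3, 1, 5, 4, 3, 2, 0, 3, 2, 4, 3, 5, 4, 6, 5, 3, 1, 4, 3, 2, 3,
      2, 1, 3, 4, 3, 2, 1, 3, 5, 4, 3, 2, 1, 3, 4, 5, 6, 5, 4, 3, 2, 1, 3, 4, 5, 0, 2, 3,
      4, 5, 1, 3, 4, 2, 3, 0, 2, 1, 3, 4, 5], none),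
   (66, [5, 4, 3, 1, 2, 0, 3, 2, 4, 3, 1, 5, 4, 3, 2, 0, 3, 2, 4, 3, 5, 4, 6, 5, 3, 1, 4, 3, 2, 3,
      2, 1, 3, 4, 3, 2, 1, 3, 5, 4, 3, 2, 1, 3, 4, 5, 6, 5, 4, 3, 2, 1, 3, 4, 5, 0, 2, 3,
      4, 5, 6, 1, 3, 4, 5, 2, 3, 0, 2, 1, 3], none),
   (73, [5, 4, 3, 1, 2, 0, 3, 2, 4, 3, 1, 5, 4, 3, 2, 0, 3, 2, 4, 3, 5, 4, 6, 5, 3, 1, 4, 3, 2, 3,
      2, 1, 3, 4, 3, 2, 1, 3, 5, 4, 3, 2, 1, 3, 4, 5, 6, 5, 4, 3, 2, 1, 3, 4, 5, 0, 2, 3,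
      4, 5, 6, 1, 3, 4, 5, 2, 3, 4, 1, 3, 0], none)]

/-- All steps. -/
def steps : List (List (ℕ × List ℕ × Option ℕ)) :=
  [steps0, steps1, steps2, steps3, steps4, steps5]

theorem walk_ok : walkOk chevE7 (Chevalley.E7.tab.w) reps frameRoots steps = true := by
  decide +kernel

theorem frame_ok : frameB chevE7 frameRoots = true := by decide +kernel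

theorem span_ok : spanB chevE7 (Chevalley.E7.tab.cf chevE7) frameRoots = true := by
  decide +kernel

end Cfsg.Agent.H56.Inv.E7
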